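import Cfsg.Agent.H751.Mono.F4Root

/-!
# Commutative 3-subgroups of `W(F₄)` without `60°` on the long roots (helper751, S2187, M8b)

`exists_orb` : such a subgroup `V ≠ 1` has a short root `c` and `f ∈ V` with `c + f c + f² c = 0` and `V c = ⟨f⟩ c`;
`cover` : the reflections in the long roots move `{± c, ± f c, ± f² c}` to all short roots.
-/

set_option autoImplicit false
set_option linter.unusedSectionVars false
set_option linter.unusedVariables false
set_option linter.style.haveILetI false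
set_option warn.classDefReducibility false

namespace Cfsg.Agent.H751.Mono

open CoxeterSystem Cfsg Cfsg.Lie Cfsg.Lie.ChevalleyDatum
open Cfsg.Agent.ChevalleyStructure Cfsg.Agent.ChevalleyStructure.Elts Cfsg.Agent.ChevalleyStructure.CoxeterGeom
  Cfsg.Agent.ChevalleyStructure.CoxeterGeomTypes Cfsg.Agent.ChevalleyStructure.NPerm
open Cfsg.Agent.Tits.Roots Cfsg.Agent.Tits.Core Cfsg.Agent.Nodes Cfsg.Agent.Nodes.Reps Cfsg.Agent.Nodes.BNOf
  Cfsg.Agent.Nodes.SubComb Cfsg.Agent.Nodes.RGDChev Cfsg.Agent.Nodes.Bruhat Cfsg.Agent.Nodes.Coroot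
open Cfsg.Agent.H225.Gen (LL LL_rep LL_root LL_neg LL_long LL_refl th_mem LL_conn LL_span th)
open Cfsg.Agent.H818.StrP.UTab Cfsg.Agent.ChevalleyStructure.RootVec

variable {M : CoxeterMatrix (Fin 4)} (hp : IsType chevF4 4 M)

/-- the finite Weyl group -/
noncomputable def ft (hp : IsType chevF4 4 M) : Fintype M.Group :=
  haveI : Finite M.Group := finite_W hp M.toCoxeterSystem
  Fintype.ofFinite M.Group

/-- the form -/
noncomputable def B (hp : IsType chevF4 4 M) (x y : Fin 4 → ℤ) : ℤ :=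
  letI := ft hp
  form M.toCoxeterSystem hp.isCartan x y

theorem B_comm (x y : Fin 4 → ℤ) : B hp x y = B hp y x := by
  letI := ft hp
  exact form_comm _ _ _ _
theorem B_add (x y z : Fin 4 → ℤ) : B hp (x + y) z = B hp x z + B hp y z := by
  letI := ft hp
  exact form_add_left _ _ _ _ _
theorem B_add' (x y z : Fin 4 → ℤ) : B hp z (x + y) = B hp z x + B hp z y := by
  rw [B_comm, B_add, B_comm hp x, B_comm hp y]
theorem B_smul (c : ℤ) (x y : Fin 4 → ℤ) : B hp (c • x) y = c * B hp x y := by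
  letI := ft hp
  exact form_smul_left _ _ _ _ _
theorem B_R (w : M.Group) (x y : Fin 4 → ℤ) : B hp (R hp w x) (R hp w y) = B hp x y := by
  letI := ft hp
  exact form_rep _ _ _ _ _
theorem B_zero {x : Fin 4 → ℤ} (h : B hp x x = 0) : x = 0 := by
  by_contra hne
  letI := ft hp
  exact (form_pos M.toCoxeterSystem hp.isCartan hne).ne' h
theorem B_zero_left (y : Fin 4 → ℤ) : B hp 0 y = 0 := by
  have := B_smul hp 0 0 y
  rwa [zero_smul, zero_mul] at this
theorem C_zero_iff {x y : Fin 4 → ℤ} (hy : Rt hp y) : C hp x y = 0 ↔ B hp x y = 0 := by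
  letI := ft hp
  exact cpr_zero_iff M.toCoxeterSystem hp.isCartan x hy

theorem C_R (w : M.Group) (x : Fin 4 → ℤ) {y : Fin 4 → ℤ} (hy : Rt hp y) : C hp (R hp w x) (R hp w y) = C hp x y := by
  have := finite_W hp M.toCoxeterSystem
  exact cpr_rep M.toCoxeterSystem hp.isCartan w x hy

theorem C_add (x x' : Fin 4 → ℤ) {y : Fin 4 → ℤ} (hy : Rt hp y) : C hp (x + x') y = C hp x y + C hp x' y := by
  have := finite_W hp M.toCoxeterSystem
  exact cpr_add M.toCoxeterSystem hp.isCartan x x' hy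

theorem C_self {y : Fin 4 → ℤ} (hy : Rt hp y) : C hp y y = 2 := by
  have := finite_W hp M.toCoxeterSystem
  exact cpr_self M.toCoxeterSystem hp.isCartan hy

theorem R_mul (v w : M.Group) (x : Fin 4 → ℤ) : R hp (v * w) x = R hp v (R hp w x) := rep_mul_apply _ _ _ _ _
theorem R_one (x : Fin 4 → ℤ) : R hp 1 x = x := by
  show rep M.toCoxeterSystem hp.isCartan 1 x = x
  rw [map_one, Module.End.one_apply]
theorem R_add (w : M.Group) (x y : Fin 4 → ℤ) : R hp w (x + y) = R hp w x + R hp w y := map_add _ _ _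
theorem R_neg (w : M.Group) (x : Fin 4 → ℤ) : R hp w (-x) = -R hp w x := map_neg _ _
theorem R_sub (w : M.Group) (x y : Fin 4 → ℤ) : R hp w (x - y) = R hp w x - R hp w y := map_sub _ _ _
theorem R_smul (w : M.Group) (c : ℤ) (x : Fin 4 → ℤ) : R hp w (c • x) = c • R hp w x := map_zsmul _ _ _
theorem R_L (w : M.Group) {x : Fin 4 → ℤ} (h : x ∈ L hp) : R hp w x ∈ L hp := LL_rep hp M.toCoxeterSystem h w
theorem R_Rt (w : M.Group) {x : Fin 4 → ℤ} (h : Rt hp x) : Rt hp (R hp w x) := h.act w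
theorem R_inv_R (w : M.Group) (x : Fin 4 → ℤ) : R hp w⁻¹ (R hp w x) = x := by
  rw [← R_mul, inv_mul_cancel, R_one]
theorem R_not (w : M.Group) {x : Fin 4 → ℤ} (h : x ∉ L hp) : R hp w x ∉ L hp := fun h1 => h (by
  have := R_L hp w⁻¹ h1
  rwa [R_inv_R] at this)
theorem R_inj (w : M.Group) {x y : Fin 4 → ℤ} (h : R hp w x = R hp w y) : x = y := by
  rw [← R_inv_R hp w x, h, R_inv_R]

theorem L_ne_zero {a : Fin 4 → ℤ} (ha : Rt hp a) : a ≠ 0 := by
  intro h
  have h1 := C_self hp ha
  have h2 : C hp (0 + 0) a = C hp 0 a + C hp 0 a := C_add hp 0 0 ha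
  rw [h] at h1 h2 ha
  rw [add_zero] at h2
  omega

section order3

variable {w : M.Group} (h3 : w ^ 3 = 1)
include h3

theorem R3 (x : Fin 4 → ℤ) : R hp w (R hp w (R hp w x)) = x := by
  rw [← R_mul, ← R_mul, ← pow_three', h3, R_one]

theorem not_neg {a : Fin 4 → ℤ} (ha : Rt hp a) : R hp w a ≠ -a := by
  intro h
  have h1 := R3 hp h3 a
  rw [h, R_neg, h, _root_.neg_neg, h] at h1
  have h2 : a = 0 := by
    have : (2 : ℤ) • a = 0 := by rw [two_smul]; nth_rewrite 1 [← h1]; exact neg_add_cancel a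
    exact (smul_eq_zero.1 this).resolve_left (by norm_num)
  exact L_ne_zero hp ha h2

/-- `⟨w² a, a⟩ = ⟨w a, a⟩` -/
theorem C_sq {a : Fin 4 → ℤ} (ha : a ∈ L hp) : C hp (R hp w (R hp w a)) a = C hp (R hp w a) a := by
  rw [← C_R hp w _ (root_L hp ha), R3 hp h3, (long_val hp ha (R_L hp w ha)).1]

theorem A_sum {a : Fin 4 → ℤ} (ha : a ∈ L hp) (h : C hp (R hp w a) a = -1) :
    a + R hp w a + R hp w (R hp w a) = 0 := by
  have hr := root_L hp ha
  have hr1 := R_Rt hp w hr
  have hr2 := R_Rt hp w hr1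
  have e1 : C hp a (R hp w a) = -1 := by rw [← (long_val hp (R_L hp w ha) ha).1]; exact h
  have e2 : C hp (R hp w (R hp w a)) a = -1 := by rw [C_sq hp h3 ha]; exact h
  have e3 : C hp a (R hp w (R hp w a)) = -1 := by
    rw [← (long_val hp (R_L hp w (R_L hp w ha)) ha).1]; exact e2
  have c1 : C hp (a + R hp w a + R hp w (R hp w a)) a = 0 := by
    rw [C_add hp _ _ hr, C_add hp _ _ hr, C_self hp hr, h, e2]; norm_num
  have c2 : C hp (a + R hp w a + R hp w (R hp w a)) (R hp w a) = 0 := by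
    rw [C_add hp _ _ hr1, C_add hp _ _ hr1, C_self hp hr1, e1, C_R hp w _ hr, h]; norm_num
  have c3 : C hp (a + R hp w a + R hp w (R hp w a)) (R hp w (R hp w a)) = 0 := by
    rw [C_add hp _ _ hr2, C_add hp _ _ hr2, C_self hp hr2, e3, C_R hp w _ hr1, e1]; norm_num
  apply B_zero hp
  rw [B_add', B_add', (C_zero_iff hp hr).1 c1, (C_zero_iff hp hr1).1 c2, (C_zero_iff hp hr2).1 c3]
  norm_num

/-- the three values -/
theorem cases {a : Fin 4 → ℤ} (ha : a ∈ L hp) (hno : C hp (R hp w a) a ≠ 1) :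
    C hp (R hp w a) a = 2 ∨ C hp (R hp w a) a = 0 ∨ C hp (R hp w a) a = -1 := by
  obtain ⟨-, -, h1, h2⟩ := long_val hp (R_L hp w ha) ha
  rcases h2 with h2 | h2 | h2 | h2 | h2
  · exact Or.inl h2
  · exact absurd h2 hno
  · exact Or.inr (Or.inl h2)
  · exact Or.inr (Or.inr h2)
  · exfalso
    have h4 := h1 h2
    refine not_neg hp h3 (root_L hp ha) ?_
    rw [eq_neg_iff_add_eq_zero]
    nth_rewrite 2 [h4]
    exact add_neg_cancel _

theorem fix_or {a : Fin 4 → ℤ} (ha : a ∈ L hp) (hno : C hp (R hp w a) a ≠ 1) (h0 : C hp (R hp w a) a ≠ 0) :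
    R hp w a = a ∨ a + R hp w a + R hp w (R hp w a) = 0 := by
  rcases cases hp h3 ha hno with h | h | h
  · exact Or.inl ((long_val hp (R_L hp w ha) ha).2.1 h)
  · exact absurd h h0
  · exact Or.inr (A_sum hp h3 ha h)

/-- fixed roots and roots with sum zero are orthogonal -/
theorem orth_fix {a b : Fin 4 → ℤ} (hb : b ∈ L hp) (h1 : R hp w a = a)
    (h2 : b + R hp w b + R hp w (R hp w b) = 0) : B hp a b = 0 := by
  have e1 : B hp a (R hp w b) = B hp a b := by
    conv_lhs => rw [← h1]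
    exact B_R hp w a b
  have e2 : B hp a (R hp w (R hp w b)) = B hp a b := by
    conv_lhs => rw [← h1]
    rw [B_R hp w a, e1]
  have e3 : B hp a (b + R hp w b + R hp w (R hp w b)) = 0 := by
    rw [h2, B_comm, B_zero_left]
  rw [B_add', B_add', e1, e2] at e3
  omega

/-- no orbit of length 3 of orthogonal long roots: `1 + w + w² = 0` -/
theorem all_sum (hw : w ≠ 1) (hno : ∀ a ∈ L hp, C hp (R hp w a) a ≠ 1) (h0 : ∀ a ∈ L hp, C hp (R hp w a) a ≠ 0)
    (x : Fin 4 → ℤ) : x + R hp w x + R hp w (R hp w x) = 0 := by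
  have hall : ∀ b ∈ L hp, b + R hp w b + R hp w (R hp w b) = 0 := by
    by_contra hcon
    push Not at hcon
    obtain ⟨a, ha, ha1⟩ := hcon
    have hfa : R hp w a = a := (fix_or hp h3 ha (hno a ha) (h0 a ha)).resolve_right ha1
    have hfix : ∀ b ∈ L hp, R hp w b = b := by
      intro b hb
      obtain ⟨d, hd, h1, h2⟩ := LL_conn hiF4 hp M.toCoxeterSystem ha hb
      have hfd : R hp w d = d := by
        rcases fix_or hp h3 hd (hno d hd) (h0 d hd) with h | h
        · exact h
        · exact absurd ((C_zero_iff hp (root_L hp hd)).2 (orth_fix hp h3 hd hfa h)) h1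
      rcases fix_or hp h3 hb (hno b hb) (h0 b hb) with h | h
      · exact h
      · exact absurd ((C_zero_iff hp (root_L hp hb)).2 (orth_fix hp h3 hb hfd h)) h2
    apply hw
    have := finite_W hp M.toCoxeterSystem
    refine H696.GmnToral.rep_faithful hp M.toCoxeterSystem fun x hx => ?_
    rw [map_one, Module.End.one_apply]
    have h1 : R hp w x - x = 0 := by
      refine LL_span hiF4 hp M.toCoxeterSystem (x := R hp w x - x) fun b hb => ?_
      rw [show (R hp w x - x) = R hp w x + (-1 : ℤ) • x by rw [neg_one_smul, sub_eq_add_neg]]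
      refine (C_zero_iff hp (root_L hp hb)).2 ?_
      rw [B_add, B_smul]
      have h2 : B hp (R hp w x) b = B hp x b := by
        conv_lhs => rw [← hfix b hb]
        exact B_R hp w x b
      rw [h2]; ring
    exact sub_eq_zero.1 h1
  refine LL_span hiF4 hp M.toCoxeterSystem fun b hb => (C_zero_iff hp (root_L hp hb)).2 ?_
  have e1 : B hp (R hp w x) b = B hp x (R hp w (R hp w b)) := by
    rw [← B_R hp w x, R3 hp h3]
  have e2 : B hp (R hp w (R hp w x)) b = B hp x (R hp w b) := by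
    rw [← B_R hp w x, ← B_R hp w (R hp w x), R3 hp h3]
  rw [B_add, B_add, e1, e2]
  have h1 := hall b hb
  have h2 : B hp x (b + R hp w b + R hp w (R hp w b)) = 0 := by
    rw [h1, B_comm, B_zero_left]
  rw [B_add', B_add'] at h2
  omega

end order3

/-- there are no five orthogonal long roots -/
theorem no_five (f : Fin 5 → Fin 4 → ℤ) (hf : ∀ i, f i ∈ L hp) (ho : ∀ i j, i < j → C hp (f j) (f i) = 0) : False := by
  have hB : ∀ i j, i ≠ j → B hp (f i) (f j) = 0 := by
    intro i j hij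
    rcases lt_or_gt_of_ne hij with h | h
    · rw [B_comm]
      exact (C_zero_iff hp (root_L hp (hf i))).1 (ho i j h)
    · exact (C_zero_iff hp (root_L hp (hf j))).1 (ho j i h)
  have hpos : ∀ i, B hp (f i) (f i) ≠ 0 := fun i h => L_ne_zero hp (root_L hp (hf i)) (B_zero hp h)
  have hli : LinearIndependent ℤ f := by
    rw [Fintype.linearIndependent_iff]
    intro g hg i
    have h1 : B hp (∑ j, g j • f j) (f i) = g i * B hp (f i) (f i) := by
      have h2 : ∀ s : Finset (Fin 5), B hp (∑ j ∈ s, g j • f j) (f i) = ∑ j ∈ s, g j * B hp (f j) (f i) := by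
        intro s
        classical
        induction s using Finset.induction_on with
        | empty => rw [Finset.sum_empty, Finset.sum_empty]; exact B_zero_left hp _
        | insert k s hk ih => rw [Finset.sum_insert hk, Finset.sum_insert hk, B_add, B_smul, ih]
      rw [h2, Finset.sum_eq_single i]
      · intro j _ hj
        rw [hB j i hj, mul_zero]
      · intro h; exact absurd (Finset.mem_univ _) h
    rw [hg, B_zero_left] at h1
    exact (mul_eq_zero.1 h1.symm).resolve_right (hpos i)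
  have h1 := hli.fintype_card_le_finrank
  rw [Fintype.card_fin, Module.finrank_fin_fun] at h1
  omega

section V

variable {V : Subgroup M.Group} (hcomm : ∀ v ∈ V, ∀ w ∈ V, v * w = w * v) (h3 : ∀ v ∈ V, v ^ 3 = 1)
  (hno : ∀ v ∈ V, ∀ b ∈ L hp, C hp (R hp v b) b ≠ 1)
include hcomm h3 hno

/-- the orbit of an orthogonal triple -/
theorem case_A {w : M.Group} (hw : w ∈ V) {a : Fin 4 → ℤ} (ha : a ∈ L hp) (h0 : C hp (R hp w a) a = 0)
    {v : M.Group} (hv : v ∈ V) : R hp v a = a ∨ R hp v a = R hp w a ∨ R hp v a = R hp w (R hp w a) := by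
  have hr := root_L hp ha
  have hwv : ∀ u ∈ V, ∀ v ∈ V, ∀ x, R hp u (R hp v x) = R hp v (R hp u x) := by
    intro u hu v hv x
    rw [← R_mul, hcomm u hu v hv, R_mul]
  have hcas : ∀ u ∈ V, C hp (R hp u a) a = 2 ∨ C hp (R hp u a) a = 0 ∨ C hp (R hp u a) a = -1 := fun u hu =>
    cases hp (h3 u hu) ha (hno u hu a ha)
  have hfix : ∀ u ∈ V, C hp (R hp u a) a = 2 → R hp u a = a := fun u hu h =>
    (long_val hp (R_L hp u ha) ha).2.1 h
  by_cases c0 : C hp (R hp v a) a = 2
  · exact Or.inl (hfix v hv c0)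
  by_cases c1 : C hp (R hp (w * v) a) a = 2
  · have h1 := hfix _ (mul_mem hw hv) c1
    rw [R_mul] at h1
    right; right
    apply R_inj hp w
    rw [h1, R3 hp (h3 w hw)]
  by_cases c2 : C hp (R hp (w * (w * v)) a) a = 2
  · have h1 := hfix _ (mul_mem hw (mul_mem hw hv)) c2
    rw [R_mul, R_mul] at h1
    right; left
    apply R_inj hp w
    apply R_inj hp w
    rw [h1, R3 hp (h3 w hw)]
  exfalso
  -- the two further values at `u`
  have hlong : ∀ u : M.Group, R hp u a ∈ L hp := fun u => R_L hp u ha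
  have key : ∀ u ∈ V, C hp (R hp (w * u) a) a ≠ 2 → C hp (R hp (w * (w * u)) a) a ≠ 2 →
      C hp (R hp u a) a ≠ -1 := by
    intro u hu d1 d2 hm
    have hs := A_sum hp (h3 u hu) ha hm
    have e0 : C hp a (R hp w a) = 0 := by rw [(long_val hp ha (hlong w)).1]; exact h0
    have e1 : C hp (R hp u a) (R hp w a) = C hp (R hp (w * (w * u)) a) a := by
      rw [← C_R hp w _ (hlong w |> root_L hp), ← C_R hp w _ (R_Rt hp w (hlong w |> root_L hp)),
        R3 hp (h3 w hw), R_mul, R_mul]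
    have e2 : C hp (R hp u (R hp u a)) (R hp w a) = C hp (R hp (w * u) a) a := by
      rw [← C_R hp u _ (hlong w |> root_L hp), R3 hp (h3 u hu), (long_val hp ha (R_L hp u (hlong w))).1,
        hwv u hu w hw, ← R_mul]
    have hsum : C hp (a + R hp u a + R hp u (R hp u a)) (R hp w a) = 0 := by
      rw [hs]
      refine (C_zero_iff hp (root_L hp (hlong w))).2 (B_zero_left hp _)
    rw [C_add hp _ _ (root_L hp (hlong w)), C_add hp _ _ (root_L hp (hlong w)), e0, e1, e2] at hsum
    have f1 := hcas _ (mul_mem hw hu)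
    have f2 := hcas _ (mul_mem hw (mul_mem hw hu))
    have g2 : C hp (R hp (w * (w * u)) a) a = 0 := by omega
    refine not_A2 hp ha (hlong u) (hlong w) hm h0 ?_
    rw [(long_val hp (hlong w) (hlong u)).1, e1, g2]
  have hw3 : w * (w * w) = 1 := by rw [← pow_two, ← pow_succ']; exact h3 w hw
  have z0 : C hp (R hp v a) a = 0 := by
    rcases hcas v hv with h | h | h
    · exact absurd h c0
    · exact h
    · exact absurd h (key v hv c1 c2)
  have z1 : C hp (R hp (w * v) a) a = 0 := by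
    rcases hcas _ (mul_mem hw hv) with h | h | h
    · exact absurd h c1
    · exact h
    · refine absurd h (key _ (mul_mem hw hv) c2 ?_)
      have : w * (w * (w * v)) = v := by rw [← mul_assoc, ← mul_assoc, mul_assoc w w w, hw3, one_mul]
      rw [this]
      exact c0
  have z2 : C hp (R hp (w * (w * v)) a) a = 0 := by
    rcases hcas _ (mul_mem hw (mul_mem hw hv)) with h | h | h
    · exact absurd h c2
    · exact h
    · have : w * (w * (w * v)) = v := by rw [← mul_assoc, ← mul_assoc, mul_assoc w w w, hw3, one_mul]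
      refine absurd h (key _ (mul_mem hw (mul_mem hw hv)) ?_ ?_)
      · rw [this]
        exact c0
      · rw [this]
        exact c1
  rw [R_mul] at z1
  rw [R_mul, R_mul] at z2
  have y1 : C hp (R hp w (R hp w a)) a = 0 := by rw [C_sq hp (h3 w hw) ha]; exact h0
  have rw1 := R_Rt hp w hr
  have rw2 := R_Rt hp w rw1
  have k1 : C hp (R hp v a) (R hp w a) = 0 := by
    rw [← C_R hp w _ rw1, ← C_R hp w _ rw2, R3 hp (h3 w hw)]
    exact z2
  have k2 : C hp (R hp v a) (R hp w (R hp w a)) = 0 := by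
    rw [← C_R hp w _ rw2, R3 hp (h3 w hw)]
    exact z1
  refine no_five hp ![a, R hp w a, R hp w (R hp w a), R hp v a, R hp w (R hp v a)] ?_ ?_
  · intro i
    fin_cases i
    · exact ha
    · exact hlong w
    · exact R_L hp w (hlong w)
    · exact hlong v
    · exact R_L hp w (hlong v)
  · intro i j hij
    fin_cases i <;> fin_cases j <;> first | (exfalso; revert hij; decide) | skip
    · exact h0
    · exact y1
    · exact z0
    · exact z1
    · show C hp (R hp w (R hp w a)) (R hp w a) = 0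
      rw [C_R hp w _ hr]; exact h0
    · exact k1
    · show C hp (R hp w (R hp v a)) (R hp w a) = 0
      rw [C_R hp w _ hr]; exact z0
    · exact k2
    · show C hp (R hp w (R hp v a)) (R hp w (R hp w a)) = 0
      rw [C_R hp w _ rw1]; exact k1
    · show C hp (R hp w (R hp v a)) (R hp v a) = 0
      rw [hwv w hw v hv, C_R hp v _ hr]; exact h0

/-- `V` has order 3 -/
theorem case_B (hB : ∀ v ∈ V, v ≠ 1 → ∀ x : Fin 4 → ℤ, x + R hp v x + R hp v (R hp v x) = 0) {w : M.Group}
    (hw : w ∈ V) (hw1 : w ≠ 1) {v : M.Group} (hv : v ∈ V) : v = 1 ∨ v = w ∨ v = w * w := by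
  by_contra hcon
  push Not at hcon
  obtain ⟨h1, h2, h4⟩ := hcon
  have hu : w⁻¹ * v ∈ V := mul_mem (inv_mem hw) hv
  have hu1 : w⁻¹ * v ≠ 1 := fun h => h2 (inv_mul_eq_one.1 h).symm
  apply h4
  have := finite_W hp M.toCoxeterSystem
  refine H696.GmnToral.rep_faithful hp M.toCoxeterSystem fun x _ => ?_
  show R hp v x = R hp (w * w) x
  rw [R_mul]
  set y := R hp v x - R hp w (R hp w x) with hy
  have e1 : R hp v y = R hp w y := by
    have f1 := hB v hv h1 x
    have f2 := hB w hw hw1 (R hp v x)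
    have f3 : R hp w (R hp w (R hp w x)) = x := R3 hp (h3 w hw) x
    have f4 : R hp v (R hp w (R hp w x)) = R hp w (R hp w (R hp v x)) := by
      rw [← R_mul, hcomm v hv w hw, R_mul, ← R_mul hp v w, hcomm v hv w hw, R_mul]
    have g1 : R hp v y = R hp v (R hp v x) - R hp w (R hp w (R hp v x)) := by
      rw [hy, ← f4]; exact map_sub _ _ _
    have g2 : R hp w y = R hp w (R hp v x) - x := by
      rw [hy]
      nth_rewrite 4 [← f3]
      exact map_sub _ _ _
    rw [g1, g2]
    have : R hp v (R hp v x) - R hp w (R hp w (R hp v x)) - (R hp w (R hp v x) - x) =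
        (x + R hp v x + R hp v (R hp v x)) - (R hp v x + R hp w (R hp v x) + R hp w (R hp w (R hp v x))) := by abel
    rw [f1, f2, sub_zero] at this
    exact sub_eq_zero.1 this
  have e2 : R hp (w⁻¹ * v) y = y := by rw [R_mul, e1, R_inv_R]
  have e3 := hB _ hu hu1 y
  rw [e2, e2] at e3
  have e4 : (3 : ℤ) • y = 0 := by rw [← e3]; module
  have e5 : y = 0 := (smul_eq_zero.1 e4).resolve_left (by norm_num)
  exact sub_eq_zero.1 e5

/-- **The short root.** -/
theorem exists_orb (hne : ∃ v ∈ V, v ≠ 1) : ∃ f ∈ V, ∃ c, Rt hp c ∧ c ∉ L hp ∧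
    c + R hp f c + R hp (f ^ 2) c = 0 ∧ ∀ v ∈ V, ∃ j : ℕ, R hp v c = R hp (f ^ j) c := by
  by_cases hA : ∃ w ∈ V, ∃ a ∈ L hp, C hp (R hp w a) a = 0
  · obtain ⟨w, hw, a, ha, h0⟩ := hA
    have h0' : C hp a (R hp w a) = 0 := by rw [(long_val hp ha (R_L hp w ha)).1]; exact h0
    obtain ⟨c, hc, hc', h2⟩ := half hp ha (R_L hp w ha) h0'
    have inj2 : ∀ x y : Fin 4 → ℤ, (2 : ℤ) • x = (2 : ℤ) • y → x = y := fun x y h => by
      have : (2 : ℤ) • (x - y) = 0 := by rw [smul_sub, h, sub_self]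
      exact sub_eq_zero.1 ((smul_eq_zero.1 this).resolve_left (by norm_num))
    refine ⟨w, hw, c, hc, hc', ?_, fun v hv => ?_⟩
    · apply inj2
      rw [smul_add, smul_add, ← R_smul, ← R_smul, h2, pow_two, R_mul, smul_zero]
      rw [R_sub, R_sub, R3 hp (h3 w hw)]
      abel
    · have e1 : (2 : ℤ) • R hp v c = R hp v a - R hp w (R hp v a) := by
        rw [← R_smul, h2]
        have : R hp w (R hp v a) = R hp v (R hp w a) := by rw [← R_mul, hcomm w hw v hv, R_mul]
        rw [this]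
        exact map_sub _ _ _
      have e2 : ∀ u : M.Group, (2 : ℤ) • R hp u c = R hp u a - R hp u (R hp w a) := by
        intro u
        rw [← R_smul, h2]
        exact map_sub _ _ _
      rcases case_A hp hcomm h3 hno hw ha h0 hv with h | h | h
      · refine ⟨0, inj2 _ _ ?_⟩
        rw [e1, h, pow_zero, e2, R_one, R_one]
      · refine ⟨1, inj2 _ _ ?_⟩
        rw [e1, h, pow_one, e2]
      · refine ⟨2, inj2 _ _ ?_⟩
        rw [e1, h, pow_two, e2, R_mul, R_mul]
  · push Not at hA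
    obtain ⟨w, hw, hw1⟩ := hne
    have hB : ∀ v ∈ V, v ≠ 1 → ∀ x : Fin 4 → ℤ, x + R hp v x + R hp v (R hp v x) = 0 := fun v hv hv1 =>
      all_sum hp (h3 v hv) hv1 (hno v hv) (hA v hv)
    have hc : (3 : ℕ) ∈ Sh := by simp [Sh]
    refine ⟨w, hw, vec chevF4 4 3, isRoot_vec hp M.toCoxeterSystem (r := 3) (by rw [nroots48]; norm_num),
      not_mem_of_Sh hp hc, ?_, fun v hv => ?_⟩
    · rw [pow_two, R_mul]
      exact hB w hw hw1 _
    · rcases case_B hp hcomm h3 hno hB hw hw1 hv with h | h | h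
      · exact ⟨0, by rw [h, pow_zero]⟩
      · exact ⟨1, by rw [h, pow_one]⟩
      · exact ⟨2, by rw [h, pow_two]⟩

end V

/-- **All short roots** from a triple with sum zero. -/
theorem cover {c : Fin 4 → ℤ} (hc : Rt hp c) (hc' : c ∉ L hp) {f : M.Group}
    (hs : c + R hp f c + R hp (f ^ 2) c = 0) {a : Fin 4 → ℤ} (ha : Rt hp a) (ha' : a ∉ L hp) :
    ∃ i : ℕ, a = R hp (f ^ i) c ∨ a = -R hp (f ^ i) c ∨
      ∃ b ∈ L hp, C hp (R hp (f ^ i) c) b = 1 ∧ a = R hp (f ^ i) c - b := by
  have key : ∀ i : ℕ, (C hp (R hp (f ^ i) c) a = 2 ∨ C hp (R hp (f ^ i) c) a = 0 ∨ C hp (R hp (f ^ i) c) a = -2) →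
      (a = R hp (f ^ i) c ∨ a = -R hp (f ^ i) c ∨
      ∃ b ∈ L hp, C hp (R hp (f ^ i) c) b = 1 ∧ a = R hp (f ^ i) c - b) := by
    intro i h
    have hr := R_Rt hp (f ^ i) hc
    have hn := R_not hp (f ^ i) hc'
    rcases h with h | h | h
    · exact Or.inl ((short_val hp hr hn ha ha').1 h).symm
    · obtain ⟨h1, h2⟩ := diff hp hr hn ha ha' h
      exact Or.inr (Or.inr ⟨_, h1, h2, by rw [sub_sub_cancel]⟩)
    · exact Or.inr (Or.inl ((short_val hp hr hn ha ha').2.1 h))
  have h0 := (short_val hp (R_Rt hp (f ^ 0) hc) (R_not hp (f ^ 0) hc') ha ha').2.2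
  have h1 := (short_val hp (R_Rt hp (f ^ 1) hc) (R_not hp (f ^ 1) hc') ha ha').2.2
  have h2 := (short_val hp (R_Rt hp (f ^ 2) hc) (R_not hp (f ^ 2) hc') ha ha').2.2
  have hsum : C hp (c + R hp f c + R hp (f ^ 2) c) a = 0 := by
    rw [hs]
    exact (C_zero_iff hp ha).2 (B_zero_left hp _)
  rw [C_add hp _ _ ha, C_add hp _ _ ha] at hsum
  have e0 : C hp (R hp (f ^ 0) c) a = C hp c a := by rw [pow_zero, R_one]
  have e1 : C hp (R hp (f ^ 1) c) a = C hp (R hp f c) a := by rw [pow_one]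
  by_cases c0 : C hp (R hp (f ^ 0) c) a = 2 ∨ C hp (R hp (f ^ 0) c) a = 0 ∨ C hp (R hp (f ^ 0) c) a = -2
  · exact ⟨0, key 0 c0⟩
  by_cases c1 : C hp (R hp (f ^ 1) c) a = 2 ∨ C hp (R hp (f ^ 1) c) a = 0 ∨ C hp (R hp (f ^ 1) c) a = -2
  · exact ⟨1, key 1 c1⟩
  by_cases c2 : C hp (R hp (f ^ 2) c) a = 2 ∨ C hp (R hp (f ^ 2) c) a = 0 ∨ C hp (R hp (f ^ 2) c) a = -2
  · exact ⟨2, key 2 c2⟩
  exfalso
  omega

end Cfsg.Agent.H751.Mono
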