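import Cfsg.Agent.H751.Mono.F4Tab

/-!
# The roots of `F₄` (helper751, S2187, M8b)
-/

set_option autoImplicit false
set_option linter.unusedSectionVars false
set_option maxRecDepth 100000

namespace Cfsg.Agent.H751.Mono

open CoxeterSystem Cfsg Cfsg.Lie Cfsg.Lie.ChevalleyDatum
open Cfsg.Agent.ChevalleyStructure Cfsg.Agent.ChevalleyStructure.Elts Cfsg.Agent.ChevalleyStructure.CoxeterGeom
  Cfsg.Agent.ChevalleyStructure.CoxeterGeomTypes Cfsg.Agent.ChevalleyStructure.NPerm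
open Cfsg.Agent.Tits.Roots Cfsg.Agent.Tits.Core Cfsg.Agent.Nodes Cfsg.Agent.Nodes.Reps Cfsg.Agent.Nodes.BNOf
  Cfsg.Agent.Nodes.SubComb Cfsg.Agent.Nodes.RGDChev Cfsg.Agent.Nodes.Bruhat Cfsg.Agent.Nodes.Coroot
open Cfsg.Agent.H225.Gen (LL LL_rep LL_root LL_neg LL_long LL_refl th_mem LL_conn LL_span th)
open Cfsg.Agent.H818.StrP.UTab Cfsg.Agent.ChevalleyStructure.RootVec

variable {M : CoxeterMatrix (Fin 4)} (hp : IsType chevF4 4 M)

theorem hiF4 : HiList chevF4 := by simp [HiList]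

theorem nroots48 : chevF4.nroots = 48 := rfl

/-- abbreviations -/
noncomputable abbrev C (x y : Fin 4 → ℤ) : ℤ := cpr M.toCoxeterSystem hp.isCartan x y
noncomputable abbrev R (w : M.Group) (x : Fin 4 → ℤ) : Fin 4 → ℤ := rep M.toCoxeterSystem hp.isCartan w x
abbrev Rt (x : Fin 4 → ℤ) : Prop := IsRoot M.toCoxeterSystem hp.isCartan x
abbrev L : Set (Fin 4 → ℤ) := LL M.toCoxeterSystem hp

theorem C_vec {r s : ℕ} (hr : r < 48) (hs : s < 48) : C hp (vec chevF4 4 s) (vec chevF4 4 r) = car' r s :=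
  KFacts.ChevTwoInst.cpr_vec hp M.toCoxeterSystem (r := r) hr s hs

theorem root_iff (x : Fin 4 → ℤ) : Rt hp x ↔ ∃ r < 48, vec chevF4 4 r = x := isRoot_iff hp M.toCoxeterSystem x

theorem lt_of_Lo {s : ℕ} (hs : s ∈ Lo) : s < 48 := by
  have : (Lo.all fun s => decide (s < 48)) = true := by decide +kernel
  simpa using List.all_eq_true.1 this s hs

theorem lt_of_Sh {s : ℕ} (hs : s ∈ Sh) : s < 48 := by
  have : (Sh.all fun s => decide (s < 48)) = true := by decide +kernel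
  simpa using List.all_eq_true.1 this s hs

include hp in
theorem vec_neg' {s : ℕ} (hs : s < 48) : vec chevF4 4 (47 - s) = -vec chevF4 4 s := by
  have h1 := List.all_eq_true.1 t_neg s (List.mem_range.2 hs)
  rw [decide_eq_true_eq] at h1
  rw [← h1]
  exact vec_neg hp (r := s) hs

theorem mem_foldl (w : List ℕ) (hw : ∀ i ∈ w, i < 4) {r : ℕ} (hr : r < 48) (h : vec chevF4 4 r ∈ L hp) :
    vec chevF4 4 (w.foldl (fun r i => chevF4.reflectRoot i r) r) ∈ L hp := by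
  induction w generalizing r with
  | nil => exact h
  | cons i w ih =>
    have hi : i < 4 := hw i List.mem_cons_self
    rw [List.foldl_cons]
    refine ih (fun j hj => hw j (List.mem_cons_of_mem _ hj)) ?_ ?_
    · exact reflectRoot_lt hp.inList (lt_rank hp (⟨i, hi⟩ : Fin 4)) hr
    · have h1 := rep_vec hp M.toCoxeterSystem (⟨i, hi⟩ : Fin 4) (r := r) hr
      show vec chevF4 4 (chevF4.reflectRoot ((⟨i, hi⟩ : Fin 4) : ℕ) r) ∈ L hp
      rw [← h1]
      exact LL_rep hp M.toCoxeterSystem h _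

theorem mem_of_Lo {s : ℕ} (hs : s ∈ Lo) : vec chevF4 4 s ∈ L hp := by
  have key : ∀ k : ℕ, k ∈ wds.map Prod.fst → vec chevF4 4 k ∈ L hp := by
    intro k hk
    obtain ⟨x, hx, rfl⟩ := List.mem_map.1 hk
    have h1 := List.all_eq_true.1 t_wds x hx
    rw [Bool.and_eq_true, List.all_eq_true, decide_eq_true_eq] at h1
    rw [← h1.2]
    refine mem_foldl hp x.2 (fun i hi => by simpa using h1.1 i hi) (by norm_num) ?_
    have h2 : (th chevF4 4) ∈ L hp := th_mem hp M.toCoxeterSystem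
    have h3 : th chevF4 4 = vec chevF4 4 47 := by
      show vec chevF4 4 (top chevF4) = _
      rw [t_top]
    rwa [h3] at h2
  have h1 := List.all_eq_true.1 t_cov s hs
  rw [Bool.or_eq_true] at h1
  rcases h1 with h1 | h1
  · exact key s (by simpa using h1)
  · have h2 := key (47 - s) (by simpa using h1)
    rw [vec_neg' hp (lt_of_Lo hs)] at h2
    have h3 := LL_neg hiF4 hp M.toCoxeterSystem h2
    rwa [_root_.neg_neg] at h3

theorem not_mem_of_Sh {s : ℕ} (hs : s ∈ Sh) : vec chevF4 4 s ∉ L hp := by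
  intro h
  have h1 := List.all_eq_true.1 t_short s hs
  obtain ⟨b, hb, h2⟩ := List.any_eq_true.1 h1
  rw [List.mem_range] at hb
  rw [Bool.and_eq_true, decide_eq_true_eq] at h2
  have h3 : b ≠ s := by simpa using h2.1
  have h4 := (LL_long hiF4 hp M.toCoxeterSystem).le _ h (vec chevF4 4 b) (isRoot_vec hp M.toCoxeterSystem (r := b) hb)
    (fun e => h3 (vec_inj hp (r := b) (s := s) hb (lt_of_Sh hs) e))
  rw [show cpr M.toCoxeterSystem hp.isCartan (vec chevF4 4 b) (vec chevF4 4 s) = 2 from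
    (C_vec hp (lt_of_Sh hs) hb).trans h2.2] at h4
  norm_num at h4

theorem lo_or_sh {s : ℕ} (hs : s < 48) : s ∈ Lo ∨ s ∈ Sh := by
  have h1 := List.all_eq_true.1 t_all s (List.mem_range.2 hs)
  rw [Bool.or_eq_true] at h1
  simpa using h1

theorem exists_Lo {a : Fin 4 → ℤ} (ha : a ∈ L hp) : ∃ s ∈ Lo, vec chevF4 4 s = a := by
  obtain ⟨s, hs, rfl⟩ := (root_iff hp a).1 (LL_root hiF4 hp M.toCoxeterSystem ha)
  rcases lo_or_sh hs with h | h
  · exact ⟨s, h, rfl⟩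
  · exact absurd ha (not_mem_of_Sh hp h)

theorem exists_Sh {a : Fin 4 → ℤ} (ha : Rt hp a) (hn : a ∉ L hp) : ∃ s ∈ Sh, vec chevF4 4 s = a := by
  obtain ⟨s, hs, rfl⟩ := (root_iff hp a).1 ha
  rcases lo_or_sh hs with h | h
  · exact absurd (mem_of_Lo hp h) hn
  · exact ⟨s, h, rfl⟩

theorem root_L {a : Fin 4 → ℤ} (ha : a ∈ L hp) : Rt hp a := LL_root hiF4 hp M.toCoxeterSystem ha

/-- `(a - b) / 2` is a short root -/
theorem half {a b : Fin 4 → ℤ} (ha : a ∈ L hp) (hb : b ∈ L hp) (hab : C hp a b = 0) :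
    ∃ c, Rt hp c ∧ c ∉ L hp ∧ (2 : ℤ) • c = a - b := by
  obtain ⟨r, hr, rfl⟩ := exists_Lo hp ha
  obtain ⟨s, hs, rfl⟩ := exists_Lo hp hb
  rw [C_vec hp (lt_of_Lo hs) (lt_of_Lo hr)] at hab
  have h1 := List.all_eq_true.1 (List.all_eq_true.1 t_half r hr) s hs
  rw [Bool.or_eq_true, hab] at h1
  rcases h1 with h1 | h1
  · simp at h1
  · obtain ⟨k, hk, h2⟩ := List.any_eq_true.1 h1
    refine ⟨vec chevF4 4 k, isRoot_vec hp M.toCoxeterSystem (r := k) (lt_of_Sh hk), not_mem_of_Sh hp hk, ?_⟩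
    funext i
    have h3 := List.all_eq_true.1 h2 i (List.mem_range.2 i.2)
    rw [decide_eq_true_eq] at h3
    show (2 : ℤ) * rt chevF4 k i = rt chevF4 r i - rt chevF4 s i
    exact h3

theorem not_A2 {a b c : Fin 4 → ℤ} (ha : a ∈ L hp) (hb : b ∈ L hp) (hc : c ∈ L hp) (hab : C hp b a = -1)
    (hac : C hp c a = 0) : C hp c b ≠ 0 := by
  obtain ⟨r, hr, rfl⟩ := exists_Lo hp ha
  obtain ⟨s, hs, rfl⟩ := exists_Lo hp hb
  obtain ⟨t, ht, rfl⟩ := exists_Lo hp hc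
  rw [C_vec hp (lt_of_Lo hr) (lt_of_Lo hs)] at hab
  rw [C_vec hp (lt_of_Lo hr) (lt_of_Lo ht)] at hac
  rw [C_vec hp (lt_of_Lo hs) (lt_of_Lo ht)]
  have h1 := List.all_eq_true.1 (List.all_eq_true.1 t_A2 r hr) s hs
  rw [Bool.or_eq_true, hab] at h1
  rcases h1 with h1 | h1
  · simp at h1
  · have h2 := List.all_eq_true.1 h1 t ht
    rw [Bool.or_eq_true, hac] at h2
    rcases h2 with h2 | h2
    · simp at h2
    · simpa using h2

theorem diff {x y : Fin 4 → ℤ} (hx : Rt hp x) (hx' : x ∉ L hp) (hy : Rt hp y) (hy' : y ∉ L hp) (hxy : C hp x y = 0) :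
    x - y ∈ L hp ∧ C hp x (x - y) = 1 := by
  obtain ⟨r, hr, rfl⟩ := exists_Sh hp hx hx'
  obtain ⟨s, hs, rfl⟩ := exists_Sh hp hy hy'
  rw [C_vec hp (lt_of_Sh hs) (lt_of_Sh hr)] at hxy
  have h1 := List.all_eq_true.1 (List.all_eq_true.1 t_diff r hr) s hs
  rw [Bool.or_eq_true, hxy] at h1
  rcases h1 with h1 | h1
  · simp at h1
  · obtain ⟨k, hk, h2⟩ := List.any_eq_true.1 h1
    rw [Bool.and_eq_true, decide_eq_true_eq] at h2
    have h3 : vec chevF4 4 r - vec chevF4 4 s = vec chevF4 4 k := by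
      funext i
      have h3 := List.all_eq_true.1 h2.1 i (List.mem_range.2 i.2)
      rw [decide_eq_true_eq] at h3
      exact h3.symm
    rw [h3, C_vec hp (lt_of_Lo hk) (lt_of_Sh hr)]
    exact ⟨mem_of_Lo hp hk, h2.2⟩

theorem short_val {x y : Fin 4 → ℤ} (hx : Rt hp x) (hx' : x ∉ L hp) (hy : Rt hp y) (hy' : y ∉ L hp) :
    (C hp x y = 2 → x = y) ∧ (C hp x y = -2 → y = -x) ∧
      (C hp x y = 2 ∨ C hp x y = 1 ∨ C hp x y = 0 ∨ C hp x y = -1 ∨ C hp x y = -2) := by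
  obtain ⟨r, hr, rfl⟩ := exists_Sh hp hx hx'
  obtain ⟨s, hs, rfl⟩ := exists_Sh hp hy hy'
  rw [C_vec hp (lt_of_Sh hs) (lt_of_Sh hr)]
  have h1 := List.all_eq_true.1 (List.all_eq_true.1 t_two r hr) s hs
  simp only [Bool.and_eq_true, Bool.or_eq_true, Bool.not_eq_true', decide_eq_true_eq, decide_eq_false_iff_not] at h1
  obtain ⟨⟨h2, h3⟩, h4⟩ := h1
  refine ⟨fun e => ?_, fun e => ?_, by tauto⟩
  · rw [h2.resolve_left (fun h => h e)]
  · rw [h3.resolve_left (fun h => h e), vec_neg' hp (lt_of_Sh hr)]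

theorem long_val {x y : Fin 4 → ℤ} (hx : x ∈ L hp) (hy : y ∈ L hp) :
    C hp x y = C hp y x ∧ (C hp x y = 2 → x = y) ∧ (C hp x y = -2 → y = -x) ∧
      (C hp x y = 2 ∨ C hp x y = 1 ∨ C hp x y = 0 ∨ C hp x y = -1 ∨ C hp x y = -2) := by
  obtain ⟨r, hr, rfl⟩ := exists_Lo hp hx
  obtain ⟨s, hs, rfl⟩ := exists_Lo hp hy
  rw [C_vec hp (lt_of_Lo hs) (lt_of_Lo hr), C_vec hp (lt_of_Lo hr) (lt_of_Lo hs)]
  have h1 := List.all_eq_true.1 (List.all_eq_true.1 t_long r hr) s hs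
  simp only [Bool.and_eq_true, Bool.or_eq_true, Bool.not_eq_true', decide_eq_true_eq, decide_eq_false_iff_not] at h1
  obtain ⟨⟨⟨h0, h4⟩, h2⟩, h3⟩ := h1
  refine ⟨h0, fun e => ?_, fun e => ?_, by tauto⟩
  · rw [h2.resolve_left (fun h => h e)]
  · rw [h3.resolve_left (fun h => h e), vec_neg' hp (lt_of_Lo hr)]

end Cfsg.Agent.H751.Mono
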