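import Cfsg.Agent.H751.Mono.F4Orb
import Cfsg.Agent.H321.Mono.OrbA
import Cfsg.Agent.H82.Mono.Refl

/-!
# `F₄`: the short roots (helper751, S2187, M8b)

`p8b` : `P8b hp r` for `F₄`.
-/

set_option autoImplicit false
set_option linter.unusedSectionVars false

namespace Cfsg.Agent.H751.Mono

open CoxeterSystem Cfsg Cfsg.Lie Cfsg.Lie.ChevalleyDatum
open Cfsg.Agent.ChevalleyStructure Cfsg.Agent.ChevalleyStructure.Elts Cfsg.Agent.ChevalleyStructure.CoxeterGeom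
  Cfsg.Agent.ChevalleyStructure.CoxeterGeomTypes Cfsg.Agent.ChevalleyStructure.NPerm
open Cfsg.Agent.Tits.Roots Cfsg.Agent.Tits.Core Cfsg.Agent.Nodes Cfsg.Agent.Nodes.Reps Cfsg.Agent.Nodes.BNOf
  Cfsg.Agent.Nodes.SubComb Cfsg.Agent.Nodes.RGDChev Cfsg.Agent.Nodes.Bruhat Cfsg.Agent.Nodes.Coroot
open Cfsg.Agent.KFacts.RgdField Cfsg.Agent.KFacts.RgdChevCoord
open Cfsg.Agent.BpExc Cfsg.Agent.BpExc.TorCent Cfsg.Agent.BpExc.TorChev Cfsg.Agent.BpExc.Tow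
  Cfsg.Agent.BpExc.TowChev Cfsg.Agent.BpExc.Fr Cfsg.Agent.BpExc.LangFr
open Cfsg.Agent.H469.Exc Cfsg.Agent.H316.U6 Cfsg.Agent.H818.Gen Cfsg.Agent.H818.Mono Cfsg.Agent.H696.GmnToral
open Cfsg.Agent.H225.Gen (LL LL_rep LL_root LL_neg)
open Cfsg.Agent.H496.Mono
open Cfsg.Agent.H818.StrP.UTab

/-- the reflection of a pair -/
theorem inS_refl {D : ChevalleyDatum} {l : ℕ} {M : CoxeterMatrix (Fin l)} {hp : IsType D l M} {r : ℕ} [Fact r.Prime]
    {p e : ℕ} {τ : MulAut ↥(D.group (KK r))} {γ : (Fin l → ℤ) ≃+ (Fin l → ℤ)} {E H : Subgroup ↥(D.group (KK r))}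
    (S : Sit hp r p e τ γ E H) (hr2 : r ≠ 2) {b : Fin l → ℤ} (hb : IsRoot M.toCoxeterSystem hp.isCartan b) {ε : ℤ}
    (hε : ε = 1 ∨ ε = -1) (hγ : γ b = ε • b) (hS : InS r l τ H {b, -b}) {x : Fin l → ℤ}
    (hx : IsRoot M.toCoxeterSystem hp.isCartan x) (h : InS r l τ H {x, -x}) :
    InS r l τ H {x - cpr M.toCoxeterSystem hp.isCartan x b • b, -(x - cpr M.toCoxeterSystem hp.isCartan x b • b)} := by
  obtain ⟨n, hn, hτ, s, hs, -, hsx⟩ := H82.Mono.Refl.exists_rep S hr2 hb hε hγ hS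
  refine H82.Mono.Refl.ins_rep hn hτ hs (S := {x, -x}) ?_ (fun a => ?_) h
  · rintro a (rfl | rfl)
    · exact hx
    · exact hx.neg
  · rw [← hsx x, ← map_neg]
    have hinj : Function.Injective (rep M.toCoxeterSystem hp.isCartan s) := by
      intro a b hab
      have h3 := congrArg (rep M.toCoxeterSystem hp.isCartan s⁻¹) hab
      rwa [rep_inv_apply, rep_inv_apply] at h3
    rw [Set.mem_insert_iff, Set.mem_singleton_iff, Set.mem_insert_iff, Set.mem_singleton_iff, hinj.eq_iff, hinj.eq_iff]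

variable {M : CoxeterMatrix (Fin 4)} {hp : IsType chevF4 4 M} {r : ℕ} [Fact r.Prime]

/-- **M8b.** -/
theorem p8b : P8b hp r := by
  intro e τ γ E H S hr hpr hq ε hε hγ hno hne hlong a ha
  by_cases haL : a ∈ L hp
  · exact hlong a haL
  have hcomm : ∀ v ∈ VE hp r E, ∀ w ∈ VE hp r E, v * w = w * v := fun v hv w hw => VE_comm S hv hw
  have h3 : ∀ v ∈ VE hp r E, v ^ 3 = 1 := fun v hv => VE_pow S hv
  have hno' : ∀ v ∈ VE hp r E, ∀ b ∈ L hp, C hp (Mono.R hp v b) b ≠ 1 := by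
    rintro v ⟨y, hy, hv⟩ b hb
    exact hno y hy v hv b hb
  have hne' : ∃ v ∈ VE hp r E, v ≠ 1 := by
    obtain ⟨f, hf, hfT⟩ := hne
    obtain ⟨w, hw⟩ := S.nrm f hf
    refine ⟨w, ⟨f, hf, hw⟩, fun h => hfT ?_⟩
    subst h
    exact nr_mem_T hw
  obtain ⟨f, hf, c, hc, hc', hs, horb⟩ := exists_orb hp hcomm h3 hno' hne'
  -- the three pairs
  have hA : ∀ i : ℕ, InS r 4 τ H {Mono.R hp (f ^ i) c, -Mono.R hp (f ^ i) c} := by
    intro i
    have hO : OrbA hp (VE hp r E) (Mono.R hp (f ^ i) c) := by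
      refine ⟨f, hf, ?_, fun v hv => ?_⟩
      · show Mono.R hp (f ^ i) c + Mono.R hp f (Mono.R hp (f ^ i) c) + Mono.R hp (f ^ 2) (Mono.R hp (f ^ i) c) = 0
        rw [← R_mul, ← R_mul, ← pow_succ', ← pow_add, add_comm 2 i, pow_succ, R_mul, pow_add, R_mul, ← R_add, ← R_add,
          hs]
        exact map_zero _
      · obtain ⟨j, hj⟩ := horb v hv
        refine ⟨j, ?_⟩
        show Mono.R hp v (Mono.R hp (f ^ i) c) = Mono.R hp (f ^ j) (Mono.R hp (f ^ i) c)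
        rw [← R_mul, hcomm v hv _ (pow_mem hf i), R_mul, hj, ← R_mul, ← R_mul, ← pow_add, ← pow_add, add_comm]
    obtain ⟨f', -, h1⟩ := H321.Mono.inS_A S (fun h => absurd (congrArg ChevalleyDatum.nroots h) (by decide)) hr hpr
      (R_Rt hp _ hc) hε.1 (hγ _) hO
    refine H321.Mono.InS.mono h1 ?_
    rintro x (rfl | rfl)
    · exact Or.inl rfl
    · exact Or.inr (Or.inl rfl)
  obtain ⟨i, h | h | ⟨b, hb, hb1, h⟩⟩ := cover hp hc hc' hs ha haL
  · rw [h]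
    exact hA i
  · rw [h, _root_.neg_neg, Set.pair_comm]
    exact hA i
  · have h1 := inS_refl S hr (root_L hp hb) hε.1 (hγ b) (hlong b hb) (R_Rt hp _ hc) (hA i)
    rw [show cpr M.toCoxeterSystem hp.isCartan (Mono.R hp (f ^ i) c) b = 1 from hb1, one_smul] at h1
    rw [h]
    exact h1

end Cfsg.Agent.H751.Mono
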