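import Cfsg.Agent.H496.Mono.Stmt

/-!
# The roots of `F₄`: finite checks (helper751, S2187, M8b)

`Lo`, `Sh` : the indices of the long and of the short roots.
-/

set_option autoImplicit false
set_option linter.unusedSectionVars false
set_option maxRecDepth 100000

namespace Cfsg.Agent.H751.Mono

open CoxeterSystem Cfsg Cfsg.Lie Cfsg.Lie.ChevalleyDatum
open Cfsg.Agent.ChevalleyStructure Cfsg.Agent.ChevalleyStructure.Elts Cfsg.Agent.ChevalleyStructure.CoxeterGeom
  Cfsg.Agent.ChevalleyStructure.CoxeterGeomTypes Cfsg.Agent.ChevalleyStructure.NPerm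
open Cfsg.Agent.Tits.Roots Cfsg.Agent.Tits.Core Cfsg.Agent.Nodes Cfsg.Agent.Nodes.Reps Cfsg.Agent.Nodes.BNOf
  Cfsg.Agent.Nodes.SubComb Cfsg.Agent.Nodes.RGDChev Cfsg.Agent.Nodes.Bruhat Cfsg.Agent.Nodes.Coroot
open Cfsg.Agent.H225.Gen (LL LL_rep LL_root LL_neg LL_long LL_refl th_mem)
open Cfsg.Agent.H818.StrP.UTab Cfsg.Agent.ChevalleyStructure.RootVec

/-- the long roots -/
def Lo : List ℕ := [0, 1, 2, 4, 5, 6, 15, 16, 17, 21, 22, 23, 24, 25, 26, 30, 31, 32, 41, 42, 43, 45, 46, 47]

/-- the short roots -/
def Sh : List ℕ := [3, 7, 8, 9, 10, 11, 12, 13, 14, 18, 19, 20, 27, 28, 29, 33, 34, 35, 36, 37, 38, 39, 40, 44]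

/-- `vec k = vec r - vec s` -/
def subB (k r s : ℕ) : Bool := (List.range 4).all fun i => decide (rt chevF4 k i = rt chevF4 r i - rt chevF4 s i)

/-- `2 vec k = vec r - vec s` -/
def halfB (k r s : ℕ) : Bool := (List.range 4).all fun i => decide (2 * rt chevF4 k i = rt chevF4 r i - rt chevF4 s i)

abbrev car' (r s : ℕ) : ℤ := RootCombGood.car chevF4 r s

theorem t_all : (List.range 48).all (fun s => Lo.elem s || Sh.elem s) = true := by decide +kernel

theorem t_half : (Lo.all fun r => Lo.all fun s => !(decide (car' s r = 0)) || Sh.any fun k => halfB k r s) = true := by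
  decide +kernel

theorem t_A2 : (Lo.all fun r => Lo.all fun s => !(decide (car' r s = -1)) || Lo.all fun t =>
    !(decide (car' r t = 0)) || !(decide (car' s t = 0))) = true := by decide +kernel

theorem t_diff : (Sh.all fun r => Sh.all fun s => !(decide (car' s r = 0)) || Lo.any fun k =>
    subB k r s && decide (car' k r = 1)) = true := by decide +kernel

theorem t_two : (Sh.all fun r => Sh.all fun s => (!(decide (car' s r = 2)) || decide (r = s)) &&
    (!(decide (car' s r = -2)) || decide (s = 47 - r)) &&
    (decide (car' s r = 2) || decide (car' s r = 1) || decide (car' s r = 0) || decide (car' s r = -1) ||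
      decide (car' s r = -2))) = true := by decide +kernel

theorem t_short : (Sh.all fun s => (List.range 48).any fun b => !(decide (b = s)) && decide (car' s b = 2)) = true := by
  decide +kernel

theorem t_long : (Lo.all fun r => Lo.all fun s => decide (car' s r = car' r s) &&
    (decide (car' s r = 2) || decide (car' s r = 1) || decide (car' s r = 0) || decide (car' s r = -1) ||
      decide (car' s r = -2)) && (!(decide (car' s r = 2)) || decide (r = s)) &&
    (!(decide (car' s r = -2)) || decide (s = 47 - r))) = true := by decide +kernel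

/-- words for the positive long roots -/
def wds : List (ℕ × List ℕ) := [(47, []), (46, [3]), (45, [3, 2]), (43, [3, 2, 1]), (32, [3, 2, 1, 0]),
  (42, [3, 2, 1, 2]), (31, [3, 2, 1, 0, 2]), (41, [3, 2, 1, 2, 3]), (26, [3, 2, 1, 0, 2, 1]),
  (30, [3, 2, 1, 0, 2, 3]), (24, [3, 2, 1, 0, 2, 1, 2]), (25, [3, 2, 1, 0, 2, 1, 3])]

theorem t_wds : (wds.all fun x => x.2.all (fun i => decide (i < 4)) &&
    decide (x.2.foldl (fun r i => chevF4.reflectRoot i r) 47 = x.1)) = true := by decide +kernel

theorem t_cov : (Lo.all fun s => (wds.map Prod.fst).elem s || (wds.map Prod.fst).elem (47 - s)) = true := by decide +kernel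

theorem t_neg : ((List.range 48).all fun s => decide (chevF4.neg s = 47 - s)) = true := by decide +kernel

theorem t_top : top chevF4 = 47 := by decide +kernel

end Cfsg.Agent.H751.Mono
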